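import Cfsg.Agent.H223.Lim.Basic

/-!
# S5242, tasks A3 and A4

`exists_orbit` : an orbit of points with Sylow stabilizers; `van_all` : acyclicity on all `p`-subgroups;
`van_of_filt` : filtrations (`van_of_filt_aux` : the two-out-of-three lemma as a hypothesis).
-/

set_option autoImplicit false

namespace Cfsg.Agent.H842.Lim

open MulAction Cfsg.Agent.H539.Lim

universe u v w

variable {G : Type u} [Group G] {Ω : Type v} [MulAction G Ω]

/-- an orbit of points with Sylow stabilizers -/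
theorem exists_orbit {p : ℕ} [Fact p.Prime] [Finite G] [Finite Ω] (hΩ : PSet p G Ω) :
    ∃ Ω₀ : Finset Ω, (∀ (g : G), ∀ y ∈ Ω₀, g • y ∈ Ω₀) ∧ (∀ y ∈ Ω₀, ∀ z ∈ Ω₀, ∃ g : G, g • y = z) ∧
      (∀ y ∈ Ω₀, ∃ S : Sylow p G, (S : Subgroup G) = stabilizer G y) ∧ ¬ p ∣ Ω₀.card ∧ Ω₀.Nonempty := by
  classical
  obtain ⟨S⟩ : Nonempty (Sylow p G) := inferInstance
  obtain ⟨x, hx⟩ := hΩ.exists_fix S S.2
  have hxS : stabilizer G x = (S : Subgroup G) := S.3 (hΩ.pgroup x) hx
  have hfin : (orbit G x).Finite := Set.toFinite _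
  refine ⟨hfin.toFinset, ?_, ?_, ?_, ?_, ⟨x, ?_⟩⟩
  · intro g y hy
    rw [Set.Finite.mem_toFinset] at hy ⊢
    obtain ⟨h, rfl⟩ := hy
    exact ⟨g * h, mul_smul g h x⟩
  · intro y hy z hz
    rw [Set.Finite.mem_toFinset] at hy hz
    obtain ⟨h, rfl⟩ := hy
    obtain ⟨k, rfl⟩ := hz
    refine ⟨k * h⁻¹, ?_⟩
    change (k * h⁻¹) • h • x = k • x
    rw [smul_smul, inv_mul_cancel_right]
  · intro y hy
    rw [Set.Finite.mem_toFinset] at hy
    obtain ⟨h, rfl⟩ := hy
    refine ⟨h • S, ?_⟩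
    rw [Sylow.coe_subgroup_smul, ← hxS]
    exact (stabilizer_smul_eq_stabilizer_map_conj h x).symm
  · rw [← Set.ncard_eq_toFinset_card (orbit G x) hfin, ← Nat.card_coe_set_eq,
      Nat.card_congr (orbitEquivQuotientStabilizer G x), hxS]
    exact S.not_dvd_index
  · rw [Set.Finite.mem_toFinset]
    exact mem_orbit_self x

theorem isInv_univ : IsInv (Set.univ : Set (Subgroup G)) := fun _ _ _ => trivial

theorem st_le_of {k : ℕ} (x : Fin k → Ω) (i : Fin k) : st G x ≤ stabilizer G (x i) := fun g hg => by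
  rw [mem_stabilizer_iff] at hg ⊢
  exact congrFun hg i

theorem isPGroup_st {p : ℕ} (hΩ : PSet p G Ω) {k : ℕ} (x : Fin (k + 1) → Ω) : IsPGroup p (st G x) :=
  (hΩ.pgroup (x 0)).to_le (st_le_of x 0)

/-- a finite `p`-torsion group has exponent a power of `p` -/
theorem exists_exp {p : ℕ} {D : Type w} [AddCommGroup D] [Finite D] (hD : IsPTors p D) :
    ∃ K : ℕ, ∀ d : D, (p ^ K : ℕ) • d = 0 := by
  classical
  have := Fintype.ofFinite D
  choose k hk using hD
  refine ⟨Finset.univ.sup k, fun d => ?_⟩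
  obtain ⟨t, ht⟩ : ∃ t, Finset.univ.sup k = k d + t :=
    Nat.exists_eq_add_of_le (Finset.le_sup (f := k) (Finset.mem_univ d))
  rw [ht, pow_add, mul_comm, mul_smul, hk, smul_zero]

/-- inverse of a number prime to `p` modulo the exponent of `D` -/
theorem exists_inv {p : ℕ} [Fact p.Prime] {D : Type w} [AddCommGroup D] [Finite D] (hD : IsPTors p D) {m : ℕ}
    (hm : ¬ p ∣ m) : ∃ u : ℤ, ∀ d : D, u • m • d = d := by
  obtain ⟨K, hK⟩ := exists_exp hD
  have hcop : Nat.Coprime m (p ^ K) := by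
    apply Nat.Coprime.pow_right
    rw [Nat.coprime_comm]
    exact ((Fact.out : p.Prime).coprime_iff_not_dvd).2 hm
  have h1 : (m : ℤ) * Nat.gcdA m (p ^ K) + ((p ^ K : ℕ) : ℤ) * Nat.gcdB m (p ^ K) = 1 := by
    rw [← Nat.gcd_eq_gcd_ab, hcop.gcd_eq_one, Nat.cast_one]
  refine ⟨Nat.gcdA m (p ^ K), fun d => ?_⟩
  have h2 : (((m : ℤ) * Nat.gcdA m (p ^ K) + ((p ^ K : ℕ) : ℤ) * Nat.gcdB m (p ^ K)) • d : D) = d := by
    rw [h1, one_smul]
  rw [add_smul, mul_comm ((p ^ K : ℕ) : ℤ), mul_smul _ ((p ^ K : ℕ) : ℤ), natCast_zsmul d (p ^ K), hK, smul_zero,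
    add_zero, mul_comm, mul_smul, natCast_zsmul] at h2
  exact h2

variable {D : Type w} [AddCommGroup D] [DistribMulAction G D]

/-- acyclicity on all `p`-subgroups -/
theorem van_all {p : ℕ} [Fact p.Prime] [Finite G] [Finite Ω] [Finite D] (hΩ : PSet p G Ω) (hD : IsPTors p D)
    {V : Set (Subgroup G)} (hV : ∀ P : Subgroup G, IsPGroup p P → P ∈ V) (n : ℕ) :
    Van G Ω D V (n + 1) := by
  intro c hc hcoc
  obtain ⟨Ω₀, h0, -, -, hcard, -⟩ := exists_orbit hΩ
  obtain ⟨u, hu⟩ := exists_inv (D := D) hD hcard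
  refine ⟨fun x => u • ∑ y ∈ Ω₀, c (Fin.cons y x), ⟨?_, ?_⟩, ?_⟩
  · intro g x
    have h1 : ∑ y ∈ Ω₀, g • c (Fin.cons y x) = ∑ y ∈ Ω₀, c (Fin.cons y (g • x)) := by
      refine Finset.sum_bij' (fun y _ => g • y) (fun y _ => g⁻¹ • y) (fun y hy => h0 g y hy)
        (fun y hy => h0 g⁻¹ y hy) (fun y _ => inv_smul_smul g y) (fun y _ => smul_inv_smul g y) ?_
      intro y _
      rw [← hc.smul]
      congr 1
      funext i
      refine Fin.cases ?_ (fun j => ?_) i
      · rfl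
      · rfl
    rw [smul_comm g u, Finset.smul_sum (r := g), h1]
  · intro x hx
    exact absurd (hV _ (isPGroup_st hΩ x)) hx
  · intro x _
    have key : ∀ y : Ω, c x = ∑ j : Fin (n + 1 + 1), ((-1 : ℤ) ^ (j : ℕ)) • c (Fin.cons y (fun i => x (j.succAbove i))) := by
      intro y
      have h1 := hcoc (Fin.cons y x) (hV _ (isPGroup_st hΩ _))
      rw [dd, Fin.sum_univ_succ] at h1
      simp only [Fin.val_zero, pow_zero, one_smul, Fin.val_succ, pow_succ] at h1
      have h2 : (fun j => (Fin.cons y x : Fin (n + 3) → Ω) ((0 : Fin (n + 3)).succAbove j)) = x := by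
        funext j
        rw [Fin.zero_succAbove, Fin.cons_succ]
      have h3 : ∀ j : Fin (n + 2), (fun i => (Fin.cons y x : Fin (n + 3) → Ω) ((Fin.succ j).succAbove i)) =
          (Fin.cons y (fun i => x (j.succAbove i)) : Fin (n + 2) → Ω) := by
        intro j
        funext i
        refine Fin.cases ?_ (fun i => ?_) i
        · rw [Fin.succ_succAbove_zero, Fin.cons_zero, Fin.cons_zero]
        · rw [Fin.succ_succAbove_succ, Fin.cons_succ, Fin.cons_succ]
      rw [h2] at h1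
      simp only [h3, mul_neg, mul_one, neg_smul, Finset.sum_neg_distrib] at h1
      exact eq_of_sub_eq_zero (by rw [sub_eq_add_neg]; exact h1)
    have h1 : (Ω₀.card : ℕ) • c x = ∑ y ∈ Ω₀, ∑ j : Fin (n + 1 + 1), ((-1 : ℤ) ^ (j : ℕ)) •
        c (Fin.cons y (fun i => x (j.succAbove i))) := by
      rw [← Finset.sum_const]
      exact Finset.sum_congr rfl fun y _ => key y
    rw [← hu (c x), h1, Finset.sum_comm, dd, Finset.smul_sum]
    refine Finset.sum_congr rfl fun j _ => ?_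
    rw [← Finset.smul_sum, smul_comm u]

/-- vanishing on the empty set of subgroups -/
theorem van_empty (n : ℕ) : Van G Ω D (∅ : Set (Subgroup G)) n := by
  cases n with
  | zero => exact fun c hc _ x => hc.supp x (fun h => h)
  | succ n => exact fun c _ _ => ⟨fun _ => 0, ⟨fun g _ => (smul_zero g).symm, fun _ _ => rfl⟩, fun x hx => absurd hx (fun h => h)⟩

/-- filtration, the two-out-of-three lemma `van_two1` as a hypothesis -/
theorem van_of_filt_aux [Finite G] (n : ℕ)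
    (two1 : ∀ {V U : Set (Subgroup G)}, V.OrdConnected → IsInv V → IsUpperSet U → IsInv U →
      Van G Ω D (V \ U) n → Van G Ω D (V ∩ U) n → Van G Ω D V n)
    {V : Set (Subgroup G)} (hV : V.OrdConnected) (hVi : IsInv V)
    (f : Subgroup G → ℕ) (hf : ∀ P ∈ V, ∀ Q ∈ V, P ≤ Q → f P ≤ f Q)
    (hfi : ∀ (g : G), ∀ P ∈ V, f (cj g P) = f P)
    (h : ∀ i, Van G Ω D {P | P ∈ V ∧ f P = i} n) : Van G Ω D V n := by
  have key : ∀ k : ℕ, Van G Ω D {P | P ∈ V ∧ f P < k} n := by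
    intro k
    induction k with
    | zero =>
      have : {P : Subgroup G | P ∈ V ∧ f P < 0} = ∅ := by
        ext P
        simp
      rw [this]
      exact van_empty n
    | succ k ih =>
      refine two1 (U := {P | ∃ Q ∈ V, Q ≤ P ∧ k ≤ f Q}) ?_ ?_ ?_ ?_ ?_ ?_
      · refine ⟨fun P hP R hR Q hQ => ?_⟩
        have hQV : Q ∈ V := hV.out hP.1 hR.1 hQ
        exact ⟨hQV, (hf Q hQV R hR.1 hQ.2).trans_lt hR.2⟩
      · intro g P hP
        exact ⟨hVi g P hP.1, by rw [hfi g P hP.1]; exact hP.2⟩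
      · rintro P R hPR ⟨Q, hQ, hQP, hk⟩
        exact ⟨Q, hQ, hQP.trans hPR, hk⟩
      · rintro g P ⟨Q, hQ, hQP, hk⟩
        exact ⟨cj g Q, hVi g Q hQ, Subgroup.map_mono hQP, by rw [hfi g Q hQ]; exact hk⟩
      · have : {P | P ∈ V ∧ f P < k + 1} \ {P | ∃ Q ∈ V, Q ≤ P ∧ k ≤ f Q} = {P | P ∈ V ∧ f P < k} := by
          ext P
          constructor
          · rintro ⟨⟨h1, -⟩, h2⟩
            refine ⟨h1, ?_⟩
            by_contra h3
            exact h2 ⟨P, h1, le_rfl, not_lt.1 h3⟩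
          · rintro ⟨h1, h2⟩
            refine ⟨⟨h1, by omega⟩, ?_⟩
            rintro ⟨Q, hQ, hQP, hk⟩
            have := hf Q hQ P h1 hQP
            omega
        rw [this]
        exact ih
      · have : {P | P ∈ V ∧ f P < k + 1} ∩ {P | ∃ Q ∈ V, Q ≤ P ∧ k ≤ f Q} = {P | P ∈ V ∧ f P = k} := by
          ext P
          constructor
          · rintro ⟨⟨h1, h2⟩, Q, hQ, hQP, hk⟩
            have := hf Q hQ P h1 hQP
            exact ⟨h1, by omega⟩
          · rintro ⟨h1, h2⟩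
            exact ⟨⟨h1, by omega⟩, P, h1, le_rfl, h2.ge⟩
        rw [this]
        exact h k
  obtain ⟨B, hB⟩ : ∃ B : ℕ, ∀ P : Subgroup G, f P < B := by
    have h1 : (Set.range f).Finite := Set.toFinite _
    obtain ⟨B, hB⟩ := h1.bddAbove
    exact ⟨B + 1, fun P => Nat.lt_succ_of_le (hB ⟨P, rfl⟩)⟩
  have : {P | P ∈ V ∧ f P < B} = V := by
    ext P
    exact ⟨fun h => h.1, fun h => ⟨h, hB P⟩⟩
  rw [← this]
  exact key B

/-- A4: filtration -/
theorem van_of_filt [Finite G] {V : Set (Subgroup G)} (hV : V.OrdConnected) (hVi : IsInv V)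
    (f : Subgroup G → ℕ) (hf : ∀ P ∈ V, ∀ Q ∈ V, P ≤ Q → f P ≤ f Q)
    (hfi : ∀ (g : G), ∀ P ∈ V, f (cj g P) = f P) (n : ℕ)
    (h : ∀ i, Van G Ω D {P | P ∈ V ∧ f P = i} n) : Van G Ω D V n :=
  van_of_filt_aux n (fun hV hVi hU hUi h1 h2 => Cfsg.Agent.H223.Lim.van_two1 hV hVi hU hUi h1 h2) hV hVi f hf hfi h

end Cfsg.Agent.H842.Lim
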